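import Groth.Agent.Lib.Semiab15.Apps
import Groth.Agent.Lib.AlgEquiv22.Dense
import Groth.Agent.Lib.AbRigid.SmoothGI
import Groth.Agent.Lib.TorPts21.TorusPairing

/-!
# Torsion of order prime to the characteristic is dense in semiabelian groups
-/

set_option autoImplicit false
set_option linter.style.haveILetI false
set_option linter.unusedSectionVars false
set_option maxSynthPendingDepth 3
set_option backward.isDefEq.respectTransparency false
set_option backward.isDefEq.respectTransparency.types false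

universe u

open CategoryTheory Limits MonoidalCategory CartesianMonoidalCategory MonObj GrpObj AlgebraicGeometry

noncomputable section

namespace Groth.Agent.PrimeTors15

open Semiab15 MatGrp21

attribute [local instance] InvRing21.gamAlg BorelFix21.ptsTop

variable {k : Type u} [Field k] [IsAlgClosed k]

local notation "kp" => VecGrp.pt k k

/-- Rational points killed by an integer invertible in the field. -/
def tor0 (S : Over (Spec (CommRingCat.of k))) [GrpObj S] : Set (kp ⟶ S) := {x | ∃ b : ℕ, (b : k) ≠ 0 ∧ x ^ b = 1}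

/-- The torsion of a torus is dense. -/
theorem dense_tor0_torus {T : Over (Spec (CommRingCat.of k))} [GrpObj T] (hT : Red.IsTorus T) :
    closure (InvRing21.img '' tor0 T) = Set.univ := by
  obtain ⟨r, ⟨C⟩⟩ := TorPts21.exists_chars hT
  haveI := TorPts21.isAffine_of_chars C
  haveI := TorPts21.smooth_of_chars C
  obtain ⟨m, ρ, hρ, hρc⟩ := GrassAct21.exists_embedding_GL T
  haveI := hρ
  haveI := hρc
  by_contra hne
  obtain ⟨z, hz⟩ := (Set.ne_univ_iff_exists_notMem _).1 hne
  obtain ⟨x, hx⟩ := BorelFix21.exists_pt_mem isClosed_closure.isOpen_compl.isLocallyClosed ⟨z, hz⟩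
  obtain ⟨F, hFle, hFx⟩ := (isAffineOpen_top T.left).exists_basicOpen_le
    (V := ⟨(closure (InvRing21.img '' tor0 T))ᶜ, isClosed_closure.isOpen_compl⟩) ⟨InvRing21.img x, hx⟩ trivial
  refine (BorelFix21.val_ne_zero_iff x F).2 hFx ?_
  obtain ⟨a, ha⟩ := TorPts21.exists_eq_appTop ρ F
  rw [← ha, TorPts21.val_eq_evalGL]
  have hsub : closure (MatGrp21.tors ((TorPts21.mtx ρ).range : Set (GL (Fin m) k))) ⊆
      {g' : GL (Fin m) k | TorPts21.evalGL g' a = 0} := by
    refine closure_minimal ?_ (TorPts21.isClosed_setOf_evalGL a)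
    rintro _ ⟨⟨s, rfl⟩, L, hL, hsL⟩
    show TorPts21.evalGL (TorPts21.mtx ρ s) a = 0
    have hs : s ^ L = 1 := TorPts21.mtxFn_injective ρ (by
      rw [← TorPts21.mtx_apply ρ, ← TorPts21.mtx_apply ρ, map_pow, map_one]; exact hsL)
    rw [TorPts21.mtx_apply, ← TorPts21.val_eq_evalGL, ha]
    by_contra hne0
    exact hFle ((BorelFix21.val_ne_zero_iff s F).1 hne0) (subset_closure ⟨s, ⟨L, hL, hs⟩, rfl⟩)
  exact hsub (TorPts21.range_mtx_dense C ρ ⟨x, by rw [TorPts21.mtx_apply]⟩)

/-- The torsion of a semiabelian group is dense. -/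
theorem dense_tor0 {S : Over (Spec (CommRingCat.of k))} [GrpObj S] [IsCommMonObj S] [LocallyOfFiniteType S.hom]
    [QuasiCompact S.hom] (hS : IsSA S) :
    closure (InvRing21.img '' tor0 S) = Set.univ := by
  obtain ⟨T, _, i, A, _, q, hi, hic, hT, hq, hqs, hqf, hk, hAp, hAs, hAc⟩ := hS
  haveI := hi; haveI := hic; haveI := hq; haveI := hqs; haveI := hqf; haveI := hAp; haveI := hAs; haveI := hAc
  obtain ⟨hTl, hTq, -, hTc⟩ := torus_props hT
  haveI := hTl; haveI := hTq; haveI := hTc
  haveI : IsSeparated S.hom := AbRigid.isSeparated_of_grpObj S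
  haveI := isCommMonObj_of_isProper A
  haveI := AbRigid.geometricallyIrreducible_of_connected A
  haveI := CubeField.geometricallyConnected_of_irreducible A.hom
  haveI := AbRigid.geometricallyIntegral_of_smooth A
  haveI : Mono i := Over.mono_of_mono_left i
  set C := closure (InvRing21.img '' tor0 S) with hC
  have hmul : ∀ s t : kp ⟶ S, s ∈ tor0 S → t ∈ tor0 S → s * t ∈ tor0 S := by
    rintro s t ⟨b, hb, hsb⟩ ⟨c, hc, htc⟩
    letI : CommGroup (kp ⟶ S) := Hom.commGroup
    refine ⟨b * c, by rw [Nat.cast_mul]; exact mul_ne_zero hb hc, ?_⟩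
    rw [mul_pow, pow_mul, hsb, one_pow, _root_.one_mul, mul_comm b c, pow_mul, htc, one_pow]
  have htorus : ∀ t : kp ⟶ T, InvRing21.img (t ≫ i) ∈ C := by
    intro t
    have h := closure_minimal (s := InvRing21.img '' tor0 T) (t := i.left ⁻¹' C) ?_
      (isClosed_closure.preimage i.left.continuous)
    · exact h ((dense_tor0_torus hT).ge (Set.mem_univ (InvRing21.img t)))
    rintro _ ⟨s, ⟨b, hb, hsb⟩, rfl⟩
    exact subset_closure ⟨s ≫ i, ⟨b, hb, by
      rw [← Isogeny14.hom_pow_comp, hsb, MonObj.one_comp]⟩, rfl⟩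
  have htr : ∀ s : kp ⟶ S, s ∈ tor0 S → ∀ t : kp ⟶ T, InvRing21.img ((t ≫ i) * s) ∈ C := by
    intro s hs t
    have e : ∀ z : kp ⟶ S, z ≫ InvRing21.rTr s = z * s := fun z => by
      rw [InvRing21.comp_rTr, InvRing21.toPt_pt, Category.id_comp]
    have h := closure_minimal (s := InvRing21.img '' tor0 S) (t := (InvRing21.rTr s).left ⁻¹' C) ?_
      (isClosed_closure.preimage (InvRing21.rTr s).left.continuous) (htorus t)
    · rw [← e]
      exact h
    rintro _ ⟨z, hz, rfl⟩
    show InvRing21.img (z ≫ InvRing21.rTr s) ∈ C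
    rw [e]
    exact subset_closure ⟨_, hmul z s hz hs, rfl⟩
  by_contra hne
  obtain ⟨z₀, hz₀⟩ := (Set.ne_univ_iff_exists_notMem _).1 hne
  haveI : IsLocallyNoetherian A.left := LocallyOfFiniteType.isLocallyNoetherian A.hom
  haveI : LocallyOfFiniteType q.left := AlgGrpBasic19.lft_left q
  haveI : LocallyOfFinitePresentation q.left := VarDim.locallyOfFinitePresentation_of_locallyNoetherian q.left
  have hopen : IsOpen (q.left '' Cᶜ) := q.left.isOpenMap _ isClosed_closure.isOpen_compl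
  obtain ⟨l, hl, hlk⟩ := MatGrp21.exists_prime_ne k
  haveI : Fact l.Prime := ⟨hl⟩
  have hd := AlgEquiv22.dense_primePowTorsion (A := A) hl.one_lt hlk
  obtain ⟨_, hzU, a, ⟨n, hn⟩, rfl⟩ := mem_closure_iff.1 (hd.ge (Set.mem_univ (q.left z₀))) _ hopen
    (Set.mem_image_of_mem q.left hz₀)
  obtain ⟨w₀, hw₀, hw₀'⟩ := hzU
  let a' : kp ⟶ A := toUnit kp ≫ a
  have ha' : InvRing21.img a' = a.left (IsLocalRing.closedPoint k) := by
    show (toUnit kp ≫ a).left (IsLocalRing.closedPoint k) = _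
    rw [Over.comp_left, Scheme.Hom.comp_apply]
    exact congrArg _ (Subsingleton.elim (α := Spec (CommRingCat.of k)) _ _)
  obtain ⟨y, hyC, hyq⟩ := BorelFix21.exists_pt_mem
    (isClosed_closure.isOpen_compl.isLocallyClosed.inter
      ((TorPts21.isClosed_singleton_img a').preimage q.left.continuous).isLocallyClosed)
    ⟨w₀, hw₀, by
      show q.left w₀ = InvRing21.img a'
      rw [hw₀', ha']⟩
  refine hyC ?_
  have hyq' : y ≫ q = a' := TorPts21.pt_ext hyq
  have hbk : ((l ^ n : ℕ) : k) ≠ 0 := by rw [Nat.cast_pow]; exact pow_ne_zero _ hlk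
  have hyb : (y ^ (l ^ n)) ≫ q = 1 := by
    rw [Isogeny14.hom_pow_comp, hyq', ← MonObj.comp_pow, hn, MonObj.comp_one]
  obtain ⟨t, ht⟩ := CharTorus15.exists_lift hk _ hyb
  obtain ⟨t', ht'⟩ := TorPts21.exists_pow_eq hT (pow_pos hl.pos n) t
  letI : CommGroup (kp ⟶ S) := Hom.commGroup
  have hs : y * (t' ≫ i)⁻¹ ∈ tor0 S := ⟨l ^ n, hbk, by
    rw [mul_pow, inv_pow, ← Isogeny14.hom_pow_comp, ht', ht, mul_inv_cancel]⟩
  have h := htr _ hs t'
  have hy : (t' ≫ i) * (y * (t' ≫ i)⁻¹) = y := by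
    rw [mul_comm y, mul_inv_cancel_left]
  rwa [hy] at h

end Groth.Agent.PrimeTors15
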