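import Groth.Agent.Lib.PrimeTors15.Dense
import Groth.Agent.Lib.SemiNhd19.Tors
import Groth.Agent.Lib.SemiNhd19.Nhd
import Groth.Agent.Lib.AffPart25.Descent
import Mathlib.AlgebraicGeometry.EffectiveEpi

/-!
# Powers of the characteristic factor through the closure of the prime-to-p torsion
-/

set_option autoImplicit false
set_option linter.style.haveILetI false
set_option linter.unusedSectionVars false
set_option maxSynthPendingDepth 3
set_option backward.isDefEq.respectTransparency false
set_option backward.isDefEq.respectTransparency.types false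

universe u

open CategoryTheory Limits MonoidalCategory CartesianMonoidalCategory MonObj GrpObj AlgebraicGeometry

noncomputable section

namespace Groth.Agent.PrimeTors15

open Semiab15

variable {k : Type u} [Field k]

/-- Base change of semiabelian groups. -/
theorem isSA_bc {K : Type u} [Field K] [Algebra k K] {S : Over (Spec (CommRingCat.of k))} [GrpObj S] (hS : IsSA S) :
    IsSA (Red.bc (Spec.map (CommRingCat.ofHom (algebraMap k K))) S) := by
  obtain ⟨T, _, i, A, _, q, hi, hic, hT, hq, hqs, hqf, hk, hAp, hAs, hAc⟩ := hS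
  haveI := hi; haveI := hic; haveI := hq; haveI := hqs; haveI := hqf; haveI := hAp; haveI := hAs; haveI := hAc
  let φ := Spec.map (CommRingCat.ofHom (algebraMap k K))
  haveI := AbRigid.geometricallyIrreducible_of_connected A
  haveI := CubeField.geometricallyConnected_of_irreducible A.hom
  refine ⟨Red.bc φ T, inferInstance, (Over.pullback φ).map i, Red.bc φ A, inferInstance, (Over.pullback φ).map q,
    inferInstance, BorelFix21.isClosedImmersion_bc φ i, TorusHom19.isTorus_bc hT φ, inferInstance,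
    MorphismProperty.of_isPullback (P := @Surjective) (BorelFix21.isPullback_bc_map φ q) hqs,
    MorphismProperty.of_isPullback (P := @Flat) (BorelFix21.isPullback_bc_map φ q) hqf,
    AffPart25.isKernel_bc i q hk φ, inferInstanceAs (IsProper (pullback.snd A.hom φ)),
    inferInstanceAs (Smooth (pullback.snd A.hom φ)), ?_⟩
  exact inferInstanceAs (ConnectedSpace (pullback A.hom φ : Scheme.{u}))

/-- A flat surjective quasi-compact morphism is schematically dominant. -/
theorem ker_eq_bot_of_cover {X Y : Scheme.{u}} (c : X ⟶ Y) [Flat c] [Surjective c] [QuasiCompact c] :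
    c.ker = ⊥ := by
  rw [← Scheme.isIso_subschemeι_iff_eq_bot]
  haveI : EffectiveEpi c := inferInstance
  haveI : StrongEpi c := by
    haveI : IsRegularEpi c := inferInstance
    infer_instance
  have sq : CommSq c.toImage c (Scheme.Hom.imageι c) (𝟙 Y) := ⟨by rw [Category.comp_id, Scheme.Hom.toImage_imageι]⟩
  haveI : IsSplitEpi (Scheme.Hom.imageι c) := ⟨⟨⟨sq.lift, sq.fac_right⟩⟩⟩
  exact isIso_of_mono_of_isSplitEpi (Scheme.Hom.imageι c)

variable {G : Over (Spec (CommRingCat.of k))} [GrpObj G]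

/-- Points killed by `n` lie in the `n`-torsion subscheme. -/
theorem mem_support_of_pow {W : Over (Spec (CommRingCat.of k))} (y : W ⟶ G) {n : ℕ} (h : y ^ n = 1) (w : W.left) :
    y.left w ∈ ((η[G].left.ker).comap (𝟙 G ^ n : G ⟶ G).left).support := by
  rw [Scheme.IdealSheafData.support_comap]
  show (𝟙 G ^ n : G ⟶ G).left (y.left w) ∈ (η[G].left.ker.support : Set G.left)
  have e : y ≫ (𝟙 G ^ n) = toUnit W ≫ η[G] := by
    rw [MonObj.comp_pow, Category.comp_id, h, Hom.one_def]
  rw [← Scheme.Hom.comp_apply, ← Over.comp_left, e]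
  haveI : QuasiCompact η[G].left := inferInstance
  exact Scheme.Hom.range_subset_ker_support _ ⟨_, rfl⟩

/-- A power of the characteristic factors through the closure of the prime-to-`p` torsion. -/
theorem pow_factors (p : ℕ) [CharP k p] (hp : p.Prime) (G : Over (Spec (CommRingCat.of k))) [GrpObj G]
    [IsCommMonObj G] [LocallyOfFiniteType G.hom] [QuasiCompact G.hom] :
    ∃ (N : ℕ), (⨅ (n : ℕ) (_ : 0 < n ∧ Nat.Coprime n p), (η[G].left.ker).comap (𝟙 G ^ n : G ⟶ G).left) ≤
      (𝟙 G ^ (p ^ N) : G ⟶ G).left.ker := by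
  haveI : Fact p.Prime := ⟨hp⟩
  haveI : IsSeparated G.hom := AbRigid.isSeparated_of_grpObj G
  obtain ⟨n, I, _, m, π, hn, hm, hmc, hπ, hπm, hI⟩ := exists_pow_image p G
  haveI := hm; haveI := hmc; haveI := hπ
  obtain ⟨a, b, hbp, rfl⟩ := Nat.exists_eq_pow_mul_and_not_dvd hn.ne' p hp.ne_one
  have hb0 : (b : k) ≠ 0 := fun h => hbp ((CharP.cast_eq_zero_iff k p b).1 h)
  have hbpos : 0 < b := Nat.pos_of_ne_zero fun h => hb0 (by rw [h, Nat.cast_zero])
  refine ⟨a, ?_⟩
  haveI : Mono m := Over.mono_of_mono_left m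
  haveI := AbelGrp20.isCommMonObj_of_mono m
  haveI : LocallyOfFiniteType I.hom := by rw [← Over.w m]; infer_instance
  haveI : QuasiCompact I.hom := by rw [← Over.w m]; infer_instance
  haveI : IsSeparated I.hom := AbRigid.isSeparated_of_grpObj I
  obtain ⟨hIs, hIc⟩ := isSA_smooth_connected hI
  haveI := hIs; haveI := hIc
  -- the torsion subscheme
  let Kb := pullback (𝟙 G ^ b) η[G]
  let incl : Kb ⟶ G := pullback.fst (𝟙 G ^ b) η[G]
  have hincl : incl ^ b = 1 := by
    rw [show incl ^ b = incl ≫ (𝟙 G ^ b) by rw [MonObj.comp_pow, Category.comp_id],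
      show incl ≫ (𝟙 G ^ b) = pullback.snd (𝟙 G ^ b) η[G] ≫ η[G] from pullback.condition,
      toUnit_unique (pullback.snd (𝟙 G ^ b) η[G]) (toUnit _), Hom.one_def]
  haveI : LocallyOfFinitePresentation G.hom := LocallyOfFinitePresentation.iff_locallyOfFiniteType.2 inferInstance
  haveI hbe : Etale (𝟙 G ^ b).left := SemiNhd19.etale_pow_flat G (by
    have hu : IsUnit (b : k) := Ne.isUnit hb0
    simpa using hu.map (Scheme.ΓSpecIso (CommRingCat.of k)).inv.hom)
  haveI : Etale Kb.hom := by
    haveI : Etale (pullback.snd (𝟙 G ^ b) η[G]).left := MorphismProperty.of_isPullback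
      ((IsPullback.of_hasPullback (𝟙 G ^ b) η[G]).map (Over.forget _)) hbe
    rw [← Over.w (pullback.snd (𝟙 G ^ b) η[G])]
    exact inferInstanceAs (Etale ((pullback.snd (𝟙 G ^ b) η[G]).left ≫ 𝟙 _))
  let e : I ⊗ Kb ⟶ G := (fst I Kb ≫ m) * (snd I Kb ≫ incl)
  set H := (⨅ (n : ℕ) (_ : 0 < n ∧ Nat.Coprime n p), (η[G].left.ker).comap (𝟙 G ^ n : G ⟶ G).left) with hH
  haveI : Smooth (I ⊗ Kb).hom := inferInstanceAs (Smooth (pullback.fst I.hom Kb.hom ≫ I.hom))
  haveI : IsReduced (I ⊗ Kb).left := OrbitTop19.isReduced_of_smooth (I ⊗ Kb).hom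
  -- density
  let K := AlgebraicClosure k
  let φ := Spec.map (CommRingCat.ofHom (algebraMap k K))
  let F := Over.pullback φ
  let P := Red.bc φ (I ⊗ Kb)
  haveI : LocallyOfFiniteType P.hom := inferInstanceAs (LocallyOfFiniteType (pullback.snd (I ⊗ Kb).hom φ))
  haveI : LocallyOfFiniteType (Red.bc φ I).hom := inferInstanceAs (LocallyOfFiniteType (pullback.snd I.hom φ))
  haveI : QuasiCompact (Red.bc φ I).hom := inferInstanceAs (QuasiCompact (pullback.snd I.hom φ))
  have hdense := dense_tor0 (isSA_bc (K := K) hI)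
  have hsupp : ∀ z : (I ⊗ Kb).left, e.left z ∈ (H.support : Set G.left) := by
    by_contra hne
    push_neg at hne
    obtain ⟨z, hz⟩ := hne
    let D : Set (I ⊗ Kb).left := e.left ⁻¹' (H.support : Set G.left)
    have hD : IsClosed D := H.support.isClosed.preimage e.left.continuous
    let pr := pullback.fst (I ⊗ Kb).hom φ
    have hDK : IsClosed (pr ⁻¹' D) := hD.preimage pr.continuous
    obtain ⟨z', rfl⟩ := pr.surjective z
    obtain ⟨w, hw⟩ := BorelFix21.exists_pt_mem (G := P) hDK.isOpen_compl.isLocallyClosed ⟨z', hz⟩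
    -- slice at `w`
    let iK : VecGrp.pt K K ⟶ Red.bc φ I := w ≫ F.map (fst I Kb)
    let tK : VecGrp.pt K K ⟶ Red.bc φ Kb := w ≫ F.map (snd I Kb)
    let g : Red.bc φ I ⟶ P := lift (𝟙 _) (InvRing21.toPt _ ≫ tK) ≫ Functor.LaxMonoidal.μ F I Kb
    have hg : ∀ u : VecGrp.pt K K ⟶ Red.bc φ I, u ≫ g = lift u tK ≫ Functor.LaxMonoidal.μ F I Kb := fun u => by
      show u ≫ lift (𝟙 _) (InvRing21.toPt _ ≫ tK) ≫ Functor.LaxMonoidal.μ F I Kb = _
      rw [comp_lift_assoc, Category.comp_id, ← Category.assoc u, InvRing21.comp_toPt, InvRing21.toPt_pt,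
        Category.id_comp]
    have hwg : iK ≫ g = w := by
      rw [hg, ← comp_lift_assoc, Functor.Monoidal.lift_μ, lift_fst_snd, CategoryTheory.Functor.map_id,
        Category.comp_id]
    have hmem : InvRing21.img iK ∈ g.left ⁻¹' (pr ⁻¹' D)ᶜ := by
      show InvRing21.img (iK ≫ g) ∈ ((pr ⁻¹' D)ᶜ : Set P.left)
      rw [hwg]
      exact hw
    obtain ⟨_, hu, u, ⟨c, hc, huc⟩, rfl⟩ := mem_closure_iff.1 (hdense.ge (Set.mem_univ (InvRing21.img iK))) _
      (hDK.isOpen_compl.preimage g.left.continuous) hmem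
    refine hu ?_
    let v : VecGrp.pt K K ⟶ P := u ≫ g
    show pr (InvRing21.img v) ∈ D
    let y := DiagGL.fl φ (I ⊗ Kb) v
    have hy : pr (InvRing21.img v) = y.left (IsLocalRing.closedPoint K) := by
      show (v.left ≫ pr) (IsLocalRing.closedPoint K) = _
      congr 1
    show e.left (pr (InvRing21.img v)) ∈ (H.support : Set G.left)
    rw [hy, ← Scheme.Hom.comp_apply, ← Over.comp_left]
    have hv1 : v ≫ F.map (fst I Kb) = u := by
      rw [show v = lift u tK ≫ Functor.LaxMonoidal.μ F I Kb from hg u, Category.assoc, Functor.Monoidal.μ_fst,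
        lift_fst]
    have hc0 : (c : k) ≠ 0 := fun h => hc (by
      rw [← map_natCast (algebraMap k K), h, map_zero])
    have hkill : (y ≫ e) ^ (c * b) = 1 := by
      have h1 : (y ≫ fst I Kb) ^ c = 1 := by
        have : DiagGL.fl φ I u ^ c = 1 := by
          rw [← SemiNhd19.fl_pow', huc, MTRigid29.fl_one]
        rw [← hv1, show DiagGL.fl φ I (v ≫ F.map (fst I Kb)) = y ≫ fst I Kb from
          Adjunction.homEquiv_naturality_right_symm _ _ _] at this
        exact this
      letI : CommGroup ((Over.map φ).obj (VecGrp.pt K K) ⟶ G) := Hom.commGroup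
      have h2 : (y ≫ fst I Kb ≫ m) ^ (c * b) = 1 := by
        rw [← Category.assoc, ← Isogeny14.hom_pow_comp, pow_mul, h1, one_pow, MonObj.one_comp]
      have h3 : (y ≫ snd I Kb ≫ incl) ^ (c * b) = 1 := by
        rw [mul_comm, pow_mul, ← Category.assoc, ← MonObj.comp_pow, hincl, MonObj.comp_one, one_pow]
      rw [MonObj.comp_mul, mul_pow, h2, h3, _root_.mul_one]
    have hcop : 0 < c * b ∧ Nat.Coprime (c * b) p := by
      have hcp : ¬ p ∣ c := fun h => hc0 ((CharP.cast_eq_zero_iff k p c).2 h)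
      refine ⟨Nat.mul_pos (Nat.pos_of_ne_zero fun h => hcp (h ▸ dvd_zero p)) hbpos, ?_⟩
      rw [Nat.coprime_comm, hp.coprime_iff_not_dvd, hp.dvd_mul]
      tauto
    have hle : H ≤ (η[G].left.ker).comap (𝟙 G ^ (c * b) : G ⟶ G).left := iInf₂_le (c * b) hcop
    exact Scheme.IdealSheafData.support_antitone hle (mem_support_of_pow (y ≫ e) hkill _)
  have hHe : H ≤ e.left.ker := by
    rw [← Scheme.IdealSheafData.map_bot e.left, Scheme.IdealSheafData.le_map_iff_comap_le]
    refine (Scheme.IdealSheafData.le_radical _).trans ?_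
    rw [← Scheme.IdealSheafData.vanishingIdeal_support,
      show (H.comap e.left).support = ⊤ from TopologicalSpace.Closeds.ext (Set.eq_univ_of_forall fun z => by
        rw [Scheme.IdealSheafData.support_comap]; exact hsupp z),
      Scheme.IdealSheafData.vanishingIdeal_top, Scheme.nilradical_eq_bot]
  -- the cover
  obtain ⟨hf, hs⟩ := flat_surjective_pow hI hbpos
  haveI := hf; haveI := hs
  haveI : QuasiCompact (𝟙 I ^ b).left := qc_left _
  let G' := pullback π (𝟙 I ^ b)
  let c : G' ⟶ G := pullback.fst π (𝟙 I ^ b)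
  let i' : G' ⟶ I := pullback.snd π (𝟙 I ^ b)
  have sqc := ((IsPullback.of_hasPullback π (𝟙 I ^ b)).map (Over.forget _)).flip
  haveI : Flat c.left := MorphismProperty.of_isPullback (P := @Flat) sqc hf
  haveI : Surjective c.left := MorphismProperty.of_isPullback (P := @Surjective) sqc hs
  haveI : QuasiCompact c.left := MorphismProperty.of_isPullback (P := @QuasiCompact) sqc ‹_›
  letI : CommGroup (G' ⟶ G) := Hom.commGroup
  let t : G' ⟶ G := (c ≫ (𝟙 G ^ (p ^ a))) * (i' ≫ m)⁻¹
  have ht : t ^ b = 1 := by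
    have h1 : (c ≫ (𝟙 G ^ (p ^ a))) ^ b = (i' ≫ m) ^ b := by
      rw [← MonObj.comp_pow, ← pow_mul, ← hπm, ← Category.assoc,
        show c ≫ π = i' ≫ (𝟙 I ^ b) from pullback.condition, MonObj.comp_pow, Category.comp_id,
        Isogeny14.hom_pow_comp]
    rw [mul_pow, inv_pow, h1, mul_inv_cancel]
  let t' : G' ⟶ Kb := pullback.lift t (toUnit _) (by
    rw [MonObj.comp_pow, Category.comp_id, ht, Hom.one_def])
  have hfac : lift i' t' ≫ e = c ≫ (𝟙 G ^ (p ^ a)) := by
    rw [MonObj.comp_mul, lift_fst_assoc, lift_snd_assoc,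
      show t' ≫ incl = t from pullback.lift_fst _ _ _, mul_comm (i' ≫ m), inv_mul_cancel_right]
  have h := congrArg (fun f : G' ⟶ G => f.left.ker) hfac
  simp only [Over.comp_left] at h
  calc H ≤ e.left.ker := hHe
    _ ≤ ((lift i' t').left ≫ e.left).ker := Scheme.Hom.le_ker_comp _ _
    _ = _ := by
      rw [h, Scheme.Hom.ker_comp, ker_eq_bot_of_cover c.left, Scheme.IdealSheafData.map_bot]

end Groth.Agent.PrimeTors15
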